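import Cfsg.Agent.RuD.IdxNetW_m3
import Cfsg.Agent.H771.KTools_m3
import Cfsg.Agent.H393.Iso.Ru
import Cfsg.Agent.H547.SelfCent.Ru
import Cfsg.Agent.RuLat.Main
import Cfsg.Agent.H603.SporElim
import Cfsg.Agent.H701.ZerosCols
import Cfsg.Agent.CpAutRuFive.Cert
import Cfsg.Agent.Prune
set_option linter.all false

section
prune_inst 0x7f00000000000000000000000000000000000000000000000000000000000000000000000000000000000000000000000000000000000000000000000000000000000000000000000000000000000000003fffffffffffffffffffffffffffbeffbdffffffff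

-- part: H153/ZerosRu
section
set_option linter.all false
open scoped Cfsg.Agent.FastGrp

/-!
# S4895: the row `Ru` (helper153)

Classes are separated by the orders and the numbers of fixed points on the 4060 points.
-/

set_option autoImplicit false
set_option maxRecDepth 100000
set_option exponentiation.threshold 5000

namespace Cfsg.Agent.H153.Zeros

open Subgroup Cfsg Cfsg.Agent.H92.KTools Cfsg.Agent.H771 Cfsg.Agent.H771.KTools Cfsg.Agent.H504.Zeros

namespace RuCls

open Cfsg.Agent.Lib Cfsg.Agent.Lib.BitNet Cfsg.Agent.SporadicB Cfsg.Agent.SporadicB.RuData Cfsg.Agent.SporadicB.RuOrder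
open Cfsg.Agent.RuD.Data Cfsg.Agent.SporRec.TCUpperCert Cfsg.Agent.SporRec.R3.Kernel Cfsg.Agent.RuD.Letters
open Cfsg.Agent.KFacts.Ru.CentEng

/-- number of fixed points -/
noncomputable def fxn (g : RuOrder.H) : ℕ := Nat.card {i : Fin 4060 // (g : Equiv.Perm (Fin 4060)) i = i}

theorem fxn_conj {x y : RuOrder.H} (h : IsConj x y) : fxn x = fxn y := by
  obtain ⟨c, rfl⟩ := isConj_iff.1 h
  have hc : ∀ i : Fin 4060, ((c * x * c⁻¹ : RuOrder.H) : Equiv.Perm (Fin 4060)) ((c : Equiv.Perm (Fin 4060)) i) =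
      (c : Equiv.Perm (Fin 4060)) ((x : Equiv.Perm (Fin 4060)) i) := by
    intro i
    change (c : Equiv.Perm (Fin 4060)) ((x : Equiv.Perm (Fin 4060)) ((c : Equiv.Perm (Fin 4060))⁻¹
      ((c : Equiv.Perm (Fin 4060)) i))) = _
    exact congrArg (fun j => (c : Equiv.Perm (Fin 4060)) ((x : Equiv.Perm (Fin 4060)) j))
      (Equiv.symm_apply_apply (c : Equiv.Perm (Fin 4060)) i)
  refine Nat.card_congr (Equiv.subtypeEquiv (c : Equiv.Perm (Fin 4060)) fun i => ?_)
  rw [hc]
  exact (c : Equiv.Perm (Fin 4060)).injective.eq_iff.symm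

theorem fxn_word (w : List ℕ) : fxn (wprod ml w) = popc 12 (fixMask w) := by
  have h1 : fxn (wprod ml w) = (pts 4060 (fixMask w)).card := by
    rw [fxn, Nat.card_eq_fintype_card, Fintype.card_subtype]
    congr 1
    ext i
    rw [mem_pts, testBit_fixMask, Finset.mem_filter]
    exact ⟨fun h => h.2, fun h => ⟨Finset.mem_univ _, h⟩⟩
  rw [h1]
  apply le_antisymm
  · exact card_pts_le (by norm_num) _
  · apply card_pts_eq
    intro i hi
    by_contra hge
    rw [fixMask, BitNetSimple.force_eq] at hi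
    change ((2 ^ 4060 - 1) ^^^ ((2 ^ 4060 - 1) &&& diffM w _)).testBit i = true at hi
    rw [Nat.testBit_xor, Nat.testBit_and, Nat.testBit_two_pow_sub_one, decide_eq_false hge] at hi
    simp at hi

/-- repeated words -/
def rpw (w : List ℕ) : ℕ → List ℕ
  | 0 => []
  | n + 1 => w ++ rpw w n

theorem wprod_rpw (w : List ℕ) (n : ℕ) : wprod ml (rpw w n) = wprod ml w ^ n := by
  induction n with
  | zero => rfl
  | succ n ih => rw [rpw, wprod_append, ih, pow_succ']

/-- the check of an item (word, order, number of fixed points, primes) -/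
noncomputable def chkI (d : List ℕ × ℕ × ℕ × List ℕ) : Bool :=
  (Nat.blt 0 d.2.1 && (chkRel [rpw d.1 d.2.1] && d.2.2.2.all fun p => [0, 29, 580, 577].any fun b =>
    !Nat.beq (evalK (rpw d.1 (d.2.1 / p)) b) b)) && Nat.beq (popc 12 (fixMask d.1)) d.2.2.1

theorem hasOrd_of_chk {d : List ℕ × ℕ × ℕ × List ℕ} (hps : d.2.1.primeFactors = d.2.2.2.toFinset)
    (h : chkI d = true) : orderOf (wprod ml d.1) = d.2.1 ∧ fxn (wprod ml d.1) = d.2.2.1 := by
  unfold chkI at h
  rw [Bool.and_eq_true, Bool.and_eq_true, Bool.and_eq_true, List.all_eq_true, Nat.blt_eq] at h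
  obtain ⟨⟨h0, h1, h2⟩, h3⟩ := h
  refine ⟨?_, ?_⟩
  · refine orderOf_eq_of_pow_and_pow_div_prime h0 ?_ fun p hp hd hc => ?_
    · rw [← wprod_rpw]
      exact rel_of_chk h1 _ (List.mem_singleton_self _)
    · have hp' : p ∈ d.2.2.2 := by
        rw [← List.mem_toFinset, ← hps]
        exact Nat.mem_primeFactors.2 ⟨hp, hd, h0.ne'⟩
      obtain ⟨b, hb, hbb⟩ := List.any_eq_true.1 (h2 p hp')
      rw [Bool.not_eq_true'] at hbb
      have hlt : b < 4060 := by
        simp only [List.mem_cons, List.not_mem_nil, or_false] at hb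
        rcases hb with rfl | rfl | rfl | rfl <;> norm_num
      have h4 := evalK_eq (rpw d.1 (d.2.1 / p)) ⟨b, hlt⟩
      rw [wprod_rpw, hc] at h4
      have h5 : b = evalK (rpw d.1 (d.2.1 / p)) b := h4
      rw [← h5, Nat.beq_refl] at hbb
      exact absurd hbb (by decide)
  · rw [fxn_word]
    exact Nat.eq_of_beq_eq_true h3

/-- the data -/
def data : List (List ℕ × ℕ × ℕ × List ℕ) := [
  ([], 1, 4060, []),
  ([0], 2, 0, [2]),
  ([2], 2, 92, [2]),
  ([8], 3, 10, [3]),
  ([5, 1], 4, 8, [2]),
  ([1], 4, 20, [2]),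
  ([3, 5, 6, 4, 2, 1, 7, 5], 4, 32, [2]),
  ([2, 1, 7], 5, 0, [5]),
  ([0, 8, 5], 5, 10, [5]),
  ([2, 4], 6, 2, [2, 3]),
  ([7], 7, 0, [7]),
  ([7, 5], 8, 2, [2]),
  ([7, 6, 2, 8, 5, 6], 8, 4, [2]),
  ([4, 7, 6, 3, 5, 0], 8, 6, [2]),
  ([6, 3, 2, 5], 10, 0, [2, 5]),
  ([5, 0, 8, 2], 10, 2, [2, 5]),
  ([8, 1], 12, 2, [2, 3]),
  ([1, 3, 2], 13, 4, [13]),
  ([0, 3], 14, 0, [2, 7]),
  ([6, 2, 8, 6], 15, 0, [3, 5]),
  ([0, 3, 5, 6], 16, 2, [2]),
  ([5, 3, 3], 20, 0, [2, 5]),
  ([0, 8, 3, 5, 2], 20, 2, [2, 5]),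
  ([7, 0, 6, 7, 5], 24, 0, [2, 3]),
  ([1, 5, 7], 26, 0, [2, 13]),
  ([5, 2, 7, 0, 7], 29, 0, [29])]

theorem data_primes : ∀ d ∈ data, d.2.1.primeFactors = d.2.2.2.toFinset := by decide +kernel

theorem data_chk : data.all chkI = true := by decide +kernel

theorem data_nodup : (data.map fun d => (d.2.1, d.2.2.1)).Nodup := by decide +kernel

theorem classes : 26 ≤ Nat.card (ConjClasses RuOrder.H) := by
  have hfin : Finite RuOrder.H := Nat.finite_of_card_ne_zero (by rw [card_H]; norm_num)
  refine le_trans (by decide) (length_le (data.map fun d => wprod ml d.1) ?_)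
  rw [List.pairwise_map]
  have h1 := data_nodup
  rw [List.Nodup, List.pairwise_map] at h1
  have h2 := List.all_eq_true.1 data_chk
  refine List.Pairwise.imp_of_mem ?_ h1
  intro a b ha hb hab hc
  apply hab
  obtain ⟨e1, e2⟩ := hasOrd_of_chk (data_primes a ha) (h2 a ha)
  obtain ⟨f1, f2⟩ := hasOrd_of_chk (data_primes b hb) (h2 b hb)
  have h3 := orderOf_eq_of_isConj hc
  have h4 := fxn_conj hc
  rw [e1, f1] at h3
  rw [e2, f2] at h4
  exact Prod.ext h3 h4

end RuCls

theorem ru_model : Big SporadicB.RuOrder.H := by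
  have hcard : Nat.card SporadicB.RuOrder.H = 145926144000 := SporadicB.RuOrder.card_H
  have hfin : Finite SporadicB.RuOrder.H := Nat.finite_of_card_ne_zero (by rw [hcard]; norm_num)
  have hiso : Spor.IsoRu SporadicB.RuOrder.H := ⟨RuLat.Main.equiv.symm⟩
  obtain ⟨x, hx⟩ : HasOrd SporadicB.RuOrder.H 29 := hasOrd_prime (by norm_num) (by rw [hcard]; norm_num)
  exact big_of_isolated (r := 29) (n := 5031936000) (e := 14) (m := 2) (k := 26) (by norm_num) hx
    (H547.SelfCent.Ru.ru hiso (H393.Iso.na_ru hiso) hx)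
    (by rw [hcard]) (by norm_num) (by norm_num) (by norm_num) RuCls.classes (by norm_num)

/-- **the row `Ru`** -/
theorem ru {S : Type*} [Group S] (h : Cfsg.Spor.IsoRu S) : Cfsg.Agent.H504.Zeros.Big S := by
  obtain ⟨e⟩ := h
  exact Big.of_equiv (e.trans RuLat.Main.equiv) ru_model

end Cfsg.Agent.H153.Zeros

private theorem dce_cbeca5ec7b8e : _root_.True := by
  try have : _root_.True := by simp only [_root_.Cfsg.Agent.H153.Zeros.RuCls.fxn.eq_1]
  try have : _root_.True := by simp only [_root_.Cfsg.Agent.H153.Zeros.RuCls.rpw.eq_def]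
  try have : _root_.True := by simp only [_root_.Cfsg.Agent.H153.Zeros.RuCls.rpw.eq_2]
  try have : _root_.True := by simp only [_root_.Cfsg.Agent.H153.Zeros.RuCls.rpw.eq_1]
  exact _root_.True.intro
end

-- part: H868/Dl/RuCls
section
set_option linter.all false
open scoped Cfsg.Agent.FastGrp

/-!
# The Rudvalis group: an element of order 16 with centralizer of order at most 16 (S4769, helper868)
-/

set_option autoImplicit false
set_option maxRecDepth 100000
set_option exponentiation.threshold 5000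

namespace Cfsg.Agent.H868.Dl.RuCls

open Subgroup Cfsg.Agent.Lib Cfsg.Agent.Lib.BitNet Cfsg.Agent.SporadicB Cfsg.Agent.SporadicB.RuData
open Cfsg.Agent.SporadicB.RuOrder Cfsg.Agent.RuD.Data Cfsg.Agent.SporRec.TCUpperCert Cfsg.Agent.SporRec.R3.Kernel
open Cfsg.Agent.RuD.Letters Cfsg.Agent.KFacts.Ru.CentEng Cfsg.Agent.CpAutRuFive.Eng Cfsg.Agent.H153.Zeros.RuCls

/-- an element of order 16 -/
def w16 : List ℕ := [0, 3, 5, 6]

/-- points adjacent to their image under `w16 ^ 1` -/
def M1 : ℕ := 0x5df023909f18ea1d5fac9102c0084e6c00ac20d2a0160a98c0d8a80322f08e612612a983642125a6a1d916e6099286120484976eb4812398820f0144f26d48447af343f0baf521e764040e899227bd9acf01331941413276ca5570819a138d1e8414fa013902b60820b83586ea04f4604c9259188506811a2240411350a79799048da67acc102527605d48bc202b358d60c6a6728c2957bc5a56a5e493b72200bb58ac98f251b4cf4240387092ad90e0998d47ce280c033c828859621a81d28908c86cd83a2d48a428130120dc49d4c79718b9200ac9231a9a993af6afb54b0b8ba79a8fd20e5239006284ed91c1499ecea5c24100c2ddb2aaa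466d3107b423c0a0e03165122ad5985c7bb92858038d20720d8406a80ea1408f1f520045c31a002fa294c63069dc1146da2e67d0a3925f0c6c0bb008d3a8e934da131e9422a75f2e0ab46682475a644107696be2accae28288180acd00650589f3051b0439b28bc14bc8ec1d34a4e48f0860cc134300932460902c2b0de90ea822062ea70262ac412a33a6cb851fb201c42967480bf4218f66559d89029c91eb4de2146f64bd0c95d1041206102076724aab58335e27a3887c432a9363a0c8f1b099140d90682c6d4a28236724f1db325a3c8435efce602120609306c93e3bfa65883f9018f04c4f82001b31a28a422467c5ce6b11a07cd64d00fe77352e5d080048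

/-- points adjacent to their image under `w16 ^ 2` -/
def M2 : ℕ := 0xc5c29ac5e382e3d382e0114648c13dee24249c3945454010612482c3eed1cdc2b05346c34286143876fd71a464415a20294011560e8a484004cf540250d85c088e62456b68db8ab48ea8730570b7640922293f6481a29d821914006035c07a35038cf12840b7240a96225807708050540a056010acf00c7174725c8423803081df4d4118322823600882d45337508122c100adc201c09806b01e096e75c76861001514521840c5cad52848200288a890af10c0832e6e2e784c80ae04c9fe6bddb60ff5400530244a03fd8603709288b962fac3a23f801566a164240ee0fa403e4008325164e520ad849b192e289062c29592180fa8083e856a584e91bb36d069b5109641407441a4c06685e760885daea01124ee87020c014c408c4fb60203675788400a083402d061a1a81504bca2826224506e53c45a3f998a40710a811df36a374a0e4d2ea761085c0a60032043ec92a42d789a706facd724880a25221848a9026010ce56970179611e43084865f129441e64135c6551302b819b2de01a00416f4fa99900010a814813088c304054400803ad833c512a550fc09f860324cf90b3838241c9b9717111d547f8040a5a4709350c3039ba2b200827427500c3e524246be1b2c822c007ef6296622228a0380a01cc1c2920040c14a7c80c66b908e1bf02481bc4844860481a0e205c1e48064ef008d11098d9018f324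

/-- points adjacent to their image under `w16 ^ 3` -/
def M3 : ℕ := 0xd259b6d59ca601472d689200d045251f2ca8d59be602500987ce5fd2cc12272012042f420761a808839fc64a14931232d64bd2489e68f2cbd7c064243660110a05c19c17d5949b4b80f5599fb1989a5bad028a44008fa375d268e8080dcd656390884d903982aa3146546544284264a0031e138a743c0c1968921d0b7222e03adba0a228db50a52788bd86cf9601046944e0c7354605528418262209eda0cca29ed64a93475191238358d3589130b949a485141d11e3066d8a18911cc215f000c6019ace9b855ca514301702e94f509a12e4568a8d8b2b357a1d1dc0e7a2ab51468e28ccb1033c1284a05c811943b64c1202924cade0e88740bd40d7ad6dba95b31a13445b4e6b3c956393741082387ae621dc288f42ea430db2bd0f2072f0d1442f50424158544120667a82a53e18a59524b1d9d1d961a4a615a0408a840c243846e002002a820c0db1e30e8021184cce18a1ce88c16de8ec1508192431d740c18afd0c818fd49f0099c2ce8e20324911906d56a48c11a456487448500848cfad6d3ea8b9d899e8e802d1397d3136af502546569d06b88a407bc406e654662e55ea40209208a932002d2c23a20070242f82a2f2220e8a23b11099d11fd1b136c23de31d758a618be948d35d31409746aa181af4a844d792f272685a980596456e0baa9791c2d022c2d315d9446820611bfb0a45de75c24402082e0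

/-- points adjacent to their image under `w16 ^ 4` -/
def M4 : ℕ := 0xdf1068758c298818409cbc93af5e0635dc660740a208a93ef567373a9efc3b2d68b612ca3b48c12c09be42389ab5874ad4fdf50880db2295b9c43c31bb1529735ad9ecd505153847c097bca2c75baa5b87c5c9097d5ea24664ddc0c46904297f9cc022d7adaa8ed564cca4c5d368cd6247b85c97e332fd84430d0f29c00d438a829eb269dd707cbcdf1d631daa040a7d048cd271ec1167b544d3f1919ab025305d89c380a54bca8b2390b7dbe2d2712ed1a3709e79bddd5798fedf051420920280a95ffd81cedf2558333092d137cf0296607d1ccb2c08517898609672a429125c3aef2f190c7e328a8a56f8e14ae435e80d57c455f46cf53913d05fd4875420286e391297cbfa018078324a0dd387f1616712d824cc6a8ee3b696bd014c5071806819f015d0b586a1a2dabecb36e04af5d7bfce20a60cee80290da3306ce6546902ac00a0907099fe801f1d5a72593c22189043a5d81fb3360fed10ba5c66ecee5b5f03005100e666f669747fb692aa724b399e662e5a2d9a742c44d3764dfd7cc805c229c76b26109e3c4b849d2679836501484dc0234768c3620203d2fec4ca4a024d3700e496c327acaa807a752809e6c6f18545b93342819014ca0e36582b1b0d237d63c028a80ccb31988f83f5a5f0e89dc0b6ffb1b2462015a1caa1e0e272c803e5429aa690e15c6c65917314f511c191be2214433800c71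

/-- points adjacent to their image under `w16 ^ 5` -/
def M5 : ℕ := 0x7d330a008b02ec46c4da1d5a10024f26697c00295111c32974208417356c894ba4120d0e087aab81a7b83d2383f5eb540aaa1a043833309d27a55930d8cc3863e25fd62aa27c20204f72e558548e646c8c07450890712eb4881dd940f11a1c077c81be05806228872a08c54fd89c5350214bda8566a61b8f853694f896cb49b88c6db2a0073024f6d69fc656e8c2b6dc0c96e3a2a22882ac470091cd181a112f2405a50e0150b62e2ce2f09a9adb69c4b99b3d9aad4c181a5bf02c6730b4e848108a15d50abdca94539c81d94efc88720baa08348e46ec5429e328a1a8bb210d3e0a79005b884e3e84ebc20143066f0dfed30288dde19694ada6c3505f8ca79d05a00048091cb026a05529d6a35464614e468642550c0a806a236600104064b4438f28a74820b3074561003f9081db8944b52ab81a77804cebe82850e35d41f925204144f20c14b3c029dfd9f17104db2c06c001f0143f602704b931d126aa0ca6c22caf457442ceb000c98a85c2d5aa3bd8380992416449584805262115c2f63a94203450ab1bc305902858b58830224995711818d9510127e655287168b0c0bb152801b10164ba5102833da954d3503e958da394257c1169ac48c4691021c6b3d80ed03e3908ac808d40edca8284300e880e1a27b148a13b178112394aec6c46e308ca62516c50d2437328f3e082112407c0688d043a67c29183a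

/-- instructions -/
def ins16 : List St := [
  .diff 1 0, .diff 0 3, .and 0 5, .diff 0 7, .base 0 1041, .and 5 0, .and 0 2, .and 0 4, .pt 0 297, .and 14 1,
  .and 0 11, .diff 0 6, .diff 0 5, .diff 0 7, .pt 0 455, .and 29 31, .and 0 2, .and 0 5, .and 0 5, .diff 0 34,
  .diff 0 32, .diff 0 32, .pt 0 1235, .and 10 38, .and 0 43, .and 0 32, .and 0 29, .pt 0 1048]

theorem adj1 : chkAdj (rpw w16 1) M1 = true := by decide +kernel
theorem adj2 : chkAdj (rpw w16 2) M2 = true := by decide +kernel
theorem adj3 : chkAdj (rpw w16 3) M3 = true := by decide +kernel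
theorem adj4 : chkAdj (rpw w16 4) M4 = true := by decide +kernel
theorem adj5 : chkAdj (rpw w16 5) M5 = true := by decide +kernel

theorem run16 : run w16 ins16 [M1, M2, M3, M4, M5] = some 16 := by decide +kernel

theorem comm_rpw {x : RuOrder.H} (h : x * wprod ml w16 = wprod ml w16 * x) (k : ℕ) :
    x * wprod ml (rpw w16 k) = wprod ml (rpw w16 k) * x := by
  rw [wprod_rpw]
  exact ((show Commute x (wprod ml w16) from h).pow_right k).eq

/-- **the centralizer of an element of order 16 has order at most 16** -/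
theorem card16 : Nat.card ↥(centralizer ({wprod ml w16} : Set RuOrder.H)) ≤ 16 := by
  have h1 : Nat.card (Cen [w16]) ≤ 16 := by
    refine card_le_of_run (w := w16) (List.mem_singleton.2 rfl) ?_ run16
    intro m hm
    have key : ∀ x ∈ Cen [w16], x * wprod ml w16 = wprod ml w16 * x := fun x hx => hx _ (List.mem_singleton.2 rfl)
    simp only [List.mem_cons, List.not_mem_nil, or_false] at hm
    rcases hm with rfl | rfl | rfl | rfl | rfl
    exacts [⟨_, fun x hx => comm_rpw (key x hx) 1, adj1⟩, ⟨_, fun x hx => comm_rpw (key x hx) 2, adj2⟩,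
      ⟨_, fun x hx => comm_rpw (key x hx) 3, adj3⟩, ⟨_, fun x hx => comm_rpw (key x hx) 4, adj4⟩,
      ⟨_, fun x hx => comm_rpw (key x hx) 5, adj5⟩]
  have h2 : centralizer ({wprod ml w16} : Set RuOrder.H) = Cen [w16] := by
    ext x
    rw [mem_centralizer_singleton_iff, mem_Cen]
    exact ⟨fun h w hw => by rw [List.mem_singleton.1 hw]; exact h, fun h => h _ (List.mem_singleton.2 rfl)⟩
  rw [h2]
  exact h1

theorem order16 : orderOf (wprod ml w16 : RuOrder.H) = 16 := by
  have hmem : (([0, 3, 5, 6], 16, 2, [2]) : List ℕ × ℕ × ℕ × List ℕ) ∈ data := by simp [data]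
  exact (hasOrd_of_chk (data_primes _ hmem) (List.all_eq_true.1 data_chk _ hmem)).1

end Cfsg.Agent.H868.Dl.RuCls

private theorem dce_7a7ef5c33880 : _root_.True := by
  try have : _root_.True := by simp only [_root_.Cfsg.Agent.H153.Zeros.RuCls.data.eq_1]
  exact _root_.True.intro
end
end
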