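import Cfsg.Agent.H713.Two.HeClasses
import Cfsg.Agent.KFacts.He.TwoA_m3
import Cfsg.Agent.FastGrp
import Cfsg.Agent.Prune
set_option linter.all false
open scoped Cfsg.Agent.FastGrp

/-!
# The Held group: 21 classes, and an element of order 8 with centralizer of order at most 16 (S4769, helper868)
-/

set_option autoImplicit false
set_option maxRecDepth 100000

namespace Cfsg.Agent.H868.Dl.HeCls

open Subgroup Cfsg Cfsg.Agent.H92.KTools Cfsg.Agent.H771.KTools
open Cfsg.Spor Cfsg.Spor.He Cfsg.Agent.SporadicB.HePerm Cfsg.Agent.FixBN.HeStab Cfsg.Agent.KFacts.He.Lv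
open Cfsg.Agent.CpAutHe.Cnt Cfsg.Agent.CpAutHe.Bound Cfsg.Agent.H153.Zeros.He17 Cfsg.Agent.H19.Odd.HeCnt

/-! ### Fast evaluation: plain recursors, the walk of a point is computed once -/

/-- `act` as a plain recursor -/
def aFq (X : List Gen) (y : ℕ) : ℕ := List.rec y (fun g _ ih => look (tab g) ih) X

theorem aFq_eq (X : List Gen) (y : ℕ) : aFq X y = act X y := by
  induction X with
  | nil => rfl
  | cons g X ih =>
    show look (tab g) (aFq X y) = look (tab g) (act X y)
    rw [ih]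

/-- the action of a power of a word -/
def pFq (X : List Gen) (k y : ℕ) : ℕ := Nat.rec y (fun _ ih => aFq X ih) k

theorem pFq_eq (X : List Gen) (k y : ℕ) : pFq X k y = act (pw X k) y := by
  induction k with
  | zero => rfl
  | succ k ih =>
    show aFq X (pFq X k y) = act (X ++ pw X k) y
    rw [act_append, aFq_eq, ih]

/-- the action of the reversed word -/
def fwq (L : List Gen) : ℕ → ℕ := List.rec (fun y => y) (fun g _ ih y => ih (look (tab g) y)) L

theorem fwq_eq (L : List Gen) : ∀ y : ℕ, fwq L y = act L.reverse y := by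
  induction L with
  | nil => intro y; rfl
  | cons g L ih =>
    intro y
    show fwq L (look (tab g) y) = _
    rw [ih, List.reverse_cons, act_append]
    rfl

theorem fwq_lt (L : List Gen) {y : ℕ} (hy : y < 2058) : fwq L y < 2058 := by
  rw [fwq_eq]
  exact act_lt _ _ hy

theorem aFq_fwq (L : List Gen) : ∀ y : ℕ, y < 2058 → aFq L (fwq L y) = y := by
  induction L with
  | nil => intro y _; rfl
  | cons g L ih =>
    intro y hy
    show look (tab g) (aFq L (fwq L (look (tab g) y))) = y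
    rw [ih _ (look_lt g y hy), look_look g y hy]

/-- the generator with a given number -/
def gnq (s : ℕ) : Gen :=
  bif Nat.ble s 2 then (bif Nat.beq s 0 then Gen.a else bif Nat.beq s 1 then Gen.b else Gen.c)
  else bif Nat.ble s 4 then (bif Nat.beq s 3 then Gen.d else Gen.e) else bif Nat.beq s 5 then Gen.f else Gen.g

/-- the generators which move a point to `0` -/
def wkn (n : ℕ) : ℕ → List Gen :=
  Nat.rec (fun _ => []) (fun _ ih x => Nat.rec [] (fun j _ =>
    gnq (look4 FixBN.HeData.stepT (Nat.succ j)) :: ih (look (tab (gnq (look4 FixBN.HeData.stepT (Nat.succ j)))) (Nat.succ j))) x) n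

/-- the generators which move a point to `0` -/
def wkq (x : ℕ) : List Gen := wkn 17 x

theorem chk_wkq : allBelow 2058 (fun x => Nat.beq (fwq (wkq x) x) 0) = true := by decide +kernel

/-- the colour of a pair -/
def cFq (x y : ℕ) : ℕ := col (fwq (wkq x) y)

theorem cFq_eq {x y : ℕ} (hx : x < 2058) (hy : y < 2058) : cFq x y = colr x y := by
  have h0 : phi (wd (wkq x).reverse) ⟨x, hx⟩ = 0 := by
    apply Fin.ext
    rw [phi_wd_apply, ← fwq_eq]
    exact Nat.eq_of_beq_eq_true (of_allBelow chk_wkq x hx)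
  have h1 := colr_eq _ h0 ⟨y, hy⟩
  rw [phi_wd_apply, ← fwq_eq] at h1
  exact h1.symm

/-- evaluate a number first -/
def frq (v : ℕ) (k : ℕ → Bool) : Bool := Nat.rec (k 0) (fun j _ => k (Nat.succ j)) v

theorem frq_eq (v : ℕ) (k : ℕ → Bool) : frq v k = k v := by cases v <;> rfl

/-- `List.all` as a plain recursor -/
def allq (l : List ℕ) (P : ℕ → Bool) : Bool := List.rec true (fun a _ ih => bif P a then ih else false) l

theorem allq_of {P : ℕ → Bool} : ∀ l : List ℕ, (∀ a ∈ l, P a = true) → allq l P = true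
  | [], _ => rfl
  | a :: l, h => by
    show (bif P a then allq l P else false) = true
    rw [h a List.mem_cons_self]
    exact allq_of l fun b hb => h b (List.mem_cons_of_mem _ hb)

/-- the tests `tst` -/
def tAq (X : List Gen) (fs ks : List ℕ) (p y : ℕ) : Bool :=
  bif allq fs (fun f => Nat.beq (cFq f y) (cFq f p)) then
    allq ks (fun k => Nat.beq (cFq y (pFq X k y)) (cFq p (pFq X k p))) else false

theorem tAq_of {X : List Gen} {fs ks : List ℕ} {p y : ℕ} (hfs : ∀ f ∈ fs, f < 2058) (hp : p < 2058) (hy : y < 2058)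
    (h : tst X fs ks p y = true) : tAq X fs ks p y = true := by
  have h' : and (fs.all fun f => Nat.beq (colr f y) (colr f p))
    (ks.all fun k => Nat.beq (colr y (act (pw X k) y)) (colr p (act (pw X k) p))) = true := h
  rw [Bool.and_eq_true, List.all_eq_true, List.all_eq_true] at h'
  have h1 : allq fs (fun f => Nat.beq (cFq f y) (cFq f p)) = true := allq_of fs fun f hf => by
    rw [cFq_eq (hfs f hf) hy, cFq_eq (hfs f hf) hp]
    exact h'.1 f hf
  show (bif allq fs (fun f => Nat.beq (cFq f y) (cFq f p)) then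
    allq ks (fun k => Nat.beq (cFq y (pFq X k y)) (cFq p (pFq X k p))) else false) = true
  rw [h1]
  exact allq_of ks fun k hk => by
    rw [pFq_eq, pFq_eq, cFq_eq hy (act_lt _ _ hy), cFq_eq hp (act_lt _ _ hp)]
    exact h'.2 k hk

/-- the test `P` on the points of colour `c` with respect to `f`, in the numbering seen from `f` -/
def bkq (f c : ℕ) (P : ℕ → Bool) (z : ℕ) : Bool := bif Nat.beq (col z) c then frq (aFq (wkq f) z) P else false

theorem bkq_of {f c y : ℕ} {P : ℕ → Bool} (hy : y < 2058) (hc : cFq f y = c) (h : P y = true) :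
    bkq f c P (fwq (wkq f) y) = true := by
  show (bif Nat.beq (cFq f y) c then frq (aFq (wkq f) (fwq (wkq f) y)) P else false) = true
  rw [hc, Nat.beq_refl, cond_true, frq_eq, aFq_fwq _ _ hy]
  exact h

/-- the number of possible images -/
def cntq (X : List Gen) (fs ks : List ℕ) (p : ℕ) : ℕ :=
  List.rec (cnt 2058 (tAq X [] ks p)) (fun f l _ => cnt 2058 (bkq f (cFq f p) (tAq X l ks p))) fs

theorem cnt_le_cntq {X : List Gen} {fs ks : List ℕ} {p : ℕ} (hfs : ∀ f ∈ fs, f < 2058) (hp : p < 2058) :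
    cnt 2058 (tst X fs ks p) ≤ cntq X fs ks p := by
  cases fs with
  | nil =>
    show _ ≤ cnt 2058 (tAq X [] ks p)
    rw [← card_filter, ← card_filter]
    refine Finset.card_le_card fun y hy => ?_
    rw [Finset.mem_filter, Finset.mem_range] at hy ⊢
    exact ⟨hy.1, tAq_of hfs hp hy.1 hy.2⟩
  | cons f l =>
    show _ ≤ cnt 2058 (bkq f (cFq f p) (tAq X l ks p))
    rw [← card_filter, ← card_filter]
    refine Finset.card_le_card_of_injOn (fwq (wkq f)) (fun y hy => ?_) (fun y hy z hz h => ?_)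
    · have hy' := Finset.mem_filter.1 (Finset.mem_coe.1 hy)
      have h1 := Finset.mem_range.1 hy'.1
      have h2 : and (and (Nat.beq (colr f y) (colr f p)) (l.all fun f => Nat.beq (colr f y) (colr f p)))
        (ks.all fun k => Nat.beq (colr y (act (pw X k) y)) (colr p (act (pw X k) p))) = true := hy'.2
      rw [Bool.and_assoc, Bool.and_eq_true] at h2
      have hf := hfs f List.mem_cons_self
      refine Finset.mem_coe.2 (Finset.mem_filter.2 ⟨Finset.mem_range.2 (fwq_lt _ h1), bkq_of h1 ?_ ?_⟩)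
      · rw [cFq_eq hf h1, cFq_eq hf hp]
        exact Nat.eq_of_beq_eq_true h2.1
      · exact tAq_of (fun g hg => hfs g (List.mem_cons_of_mem _ hg)) hp h1 h2.2
    · have h1 := Finset.mem_range.1 (Finset.mem_filter.1 (Finset.mem_coe.1 hy)).1
      have h2 := Finset.mem_range.1 (Finset.mem_filter.1 (Finset.mem_coe.1 hz)).1
      rw [← aFq_fwq (wkq f) y h1, h, aFq_fwq (wkq f) z h2]

/-- the check of a script -/
def runq (X : List Gen) (l : List Stp) : List ℕ → Bool :=
  List.rec (fun F => and (and (elemN 0 F) (elemN 1 F)) (and (elemN 32 F) (elemN 8 F)))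
    (fun s _ ih F => and (and (Nat.blt s.p 2058) (and (s.fs.all fun f => elemN f F) (Nat.ble (cntq X s.fs s.ks s.p) s.n)))
      (ih (nx X F s.p))) l

theorem le_of_runq {X : List Gen} : ∀ (l : List Stp) (F : List ℕ) (C : Subgroup Cfsg.Spor.He),
    (∀ c ∈ C, c * wd X = wd X * c) → (∀ c ∈ C, ∀ f ∈ F, Fx c f) → runq X l F = true → Nat.card C ≤ bd l
  | [], F, C, hC, hF, h => le_of_run [] F C hC hF h
  | s :: l, F, C, hC, hF, h => by
    have h1 : and (and (Nat.blt s.p 2058) (and (s.fs.all fun f => elemN f F) (Nat.ble (cntq X s.fs s.ks s.p) s.n)))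
      (runq X l (nx X F s.p)) = true := h
    rw [Bool.and_eq_true, Bool.and_eq_true, Bool.and_eq_true, Nat.blt_eq] at h1
    obtain ⟨⟨hp, hfs, hn⟩, h2⟩ := h1
    have hsub : s.fs ⊆ F := by
      intro a ha
      rw [List.all_eq_true] at hfs
      exact of_elemN (hfs a ha)
    have h3 : cnt 2058 (tst X s.fs s.ks s.p) ≤ s.n :=
      (cnt_le_cntq (fun f hf => (hF 1 C.one_mem f (hsub hf)).1) hp).trans (Nat.le_of_ble_eq_true hn)
    show Nat.card C ≤ s.n * bd l
    refine le_trans (step hC hF ⟨s.p, hp⟩ s.fs s.ks hsub rfl ?_) (Nat.mul_le_mul_right _ h3)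
    refine le_of_runq l (nx X F s.p) _ (fun c hc => hC c (mem_st.1 hc).1) (fun c hc => ?_) h2
    exact fx_nx (p := ⟨s.p, hp⟩) (hC c (mem_st.1 hc).1) (hF c (mem_st.1 hc).1) (mem_st.1 hc).2

/-- **The bound.** -/
theorem card_leq {X : List Gen} {l : List Stp} (h : runq X l [] = true) {n : ℕ} (hn : bd l ≤ n) :
    Nat.card ↥(centralizer ({wd X} : Set Cfsg.Spor.He)) ≤ n :=
  (le_of_runq l [] _ (fun _ hc => mem_centralizer_singleton_iff.1 hc) (fun _ _ f hf => absurd hf List.not_mem_nil) h).trans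
    hn

/-! ### The number of fixed points -/

/-- number of fixed points -/
noncomputable def fxn (g : Cfsg.Spor.He) : ℕ := Nat.card {i : Fin 2058 // phi g i = i}

theorem fxn_conj {x y : Cfsg.Spor.He} (h : IsConj x y) : fxn x = fxn y := by
  obtain ⟨c, rfl⟩ := isConj_iff.1 h
  have hc : ∀ i : Fin 2058, phi (c * x * c⁻¹) (phi c i) = phi c (phi x i) := by
    intro i
    rw [← Equiv.Perm.mul_apply, ← map_mul, ← Equiv.Perm.mul_apply, ← map_mul]
    congr 2
    group
  refine Nat.card_congr (Equiv.subtypeEquiv (phi c) fun i => ?_)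
  rw [hc]
  exact (phi c).injective.eq_iff.symm

theorem fxn_word (w : List Gen) : fxn (wd w) = cnt 2058 fun i => Nat.beq (act w i) i := by
  rw [← card_filter, fxn, Nat.card_eq_fintype_card, Fintype.card_subtype]
  refine Finset.card_bij (fun i _ => (i : ℕ)) ?_ ?_ ?_
  · intro i hi
    rw [Finset.mem_filter] at hi
    rw [Finset.mem_filter, Finset.mem_range]
    refine ⟨i.2, ?_⟩
    show Nat.beq (act w i) i = true
    rw [act_eq, hi.2]
    exact Nat.beq_refl _
  · intro i _ j _ h
    exact Fin.ext h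
  · intro n hn
    rw [Finset.mem_filter, Finset.mem_range] at hn
    have key : ∀ i : Fin 2058, Nat.beq (act w i) i = true → phi (wd w) i = i := fun i hi =>
      Fin.ext (by rw [← act_eq]; exact Nat.eq_of_beq_eq_true hi)
    exact ⟨⟨n, hn.1⟩, Finset.mem_filter.2 ⟨Finset.mem_univ _, key ⟨n, hn.1⟩ hn.2⟩, rfl⟩

/-! ### 21 classes -/

/-- the check of an item (word, order, primes, number of fixed points) -/
def chkI (d : List Gen × ℕ × List ℕ × ℕ) : Bool :=
  and (Nat.blt 0 d.2.1) (and (okw d.1 d.2.1 d.2.2.1) (Nat.beq (cnt 2058 fun i => Nat.beq (aFq d.1 i) i) d.2.2.2))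

theorem of_chkI {d : List Gen × ℕ × List ℕ × ℕ} (hps : ∀ p ∈ d.2.1.primeFactors, p ∈ d.2.2.1) (h : chkI d = true) :
    orderOf (wd d.1) = d.2.1 ∧ fxn (wd d.1) = d.2.2.2 := by
  unfold chkI at h
  rw [Bool.and_eq_true, Bool.and_eq_true, Nat.blt_eq] at h
  obtain ⟨h0, h1, h2⟩ := h
  refine ⟨hasOrd_word h0 _ hps h1, ?_⟩
  rw [fxn_word, ← Nat.eq_of_beq_eq_true h2]
  exact congrArg (cnt 2058) (funext fun i => by rw [aFq_eq])

/-- a word of order 8 -/
def W8 : List Gen := [.c, .d, .f, .c, .d, .b, .a, .b]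

/-- the data -/
def data : List (List Gen × ℕ × List ℕ × ℕ) := [
  ([], 1, [], 2058),
  ([.f], 2, [2], 42),
  ([.a], 2, [2], 154),
  ([.b, .c], 3, [3], 0),
  ([.d, .g], 3, [3], 42),
  ([.c, .g, .f], 4, [2], 2),
  ([.e, .a, .b], 4, [2], 14),
  ([.d, .e, .f], 4, [2], 18),
  ([.e, .c, .d], 5, [5], 8),
  ([.a, .c, .b], 6, [2, 3], 0),
  ([.b, .g, .d], 6, [2, 3], 10),
  ([.f, .g, .d], 7, [7], 0),
  (W8, 8, [2], 2),
  ([.f, .d, .c], 10, [2, 5], 4),
  ([.c, .g, .b, .f], 12, [2, 3], 0),
  ([.b, .d, .c], 12, [2, 3], 2),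
  ([.d, .f, .a, .g], 14, [2, 7], 0),
  ([.b, .c, .g, .d, .c, .g, .d], 15, [3, 5], 2),
  ([.f, .c, .d, .b], 17, [17], 1),
  ([.b, .d, .c, .e], 21, [3, 7], 0),
  ([.g, .d, .f, .b, .a], 28, [2, 7], 0)]

theorem data_primes : ∀ d ∈ data, ∀ p ∈ d.2.1.primeFactors, p ∈ d.2.2.1 := by decide +kernel

theorem data_chk : data.all chkI = true := by decide +kernel

theorem data_nodup : (data.map fun d => (d.2.1, d.2.2.2)).Nodup := by decide +kernel

theorem finHe : Finite Cfsg.Spor.He := Nat.finite_of_card_ne_zero (by rw [KFacts.He.Classes.card_he]; norm_num)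

/-- **21 classes.** -/
theorem classes : 21 ≤ Nat.card (ConjClasses Cfsg.Spor.He) := by
  have hfin := finHe
  refine le_trans (by decide) (length_le (data.map fun d => wd d.1) ?_)
  rw [List.pairwise_map]
  have h1 := data_nodup
  rw [List.Nodup, List.pairwise_map] at h1
  have h2 := List.all_eq_true.1 data_chk
  refine List.Pairwise.imp_of_mem ?_ h1
  intro a b ha hb hab hc
  apply hab
  obtain ⟨e1, e2⟩ := of_chkI (data_primes a ha) (h2 a ha)
  obtain ⟨f1, f2⟩ := of_chkI (data_primes b hb) (h2 b hb)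
  have h3 := orderOf_eq_of_isConj hc
  have h4 := fxn_conj hc
  rw [e1, f1] at h3
  rw [e2, f2] at h4
  exact Prod.ext h3 h4

theorem order_eight : orderOf (wd W8) = 8 :=
  hasOrd_word (by norm_num) [2] (by decide +kernel) (by decide +kernel)

/-! ### The centralizer of the element of order 8 -/

/-- a point below `n` with `P` -/
def anyB (n : ℕ) (P : ℕ → Bool) : Bool := Nat.rec false (fun k ih => bif P k then true else ih) n

theorem anyB_of {P : ℕ → Bool} {k : ℕ} (h : P k = true) : ∀ {n : ℕ}, k < n → anyB n P = true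
  | 0, hk => absurd hk (Nat.not_lt_zero _)
  | n + 1, hk => by
    show (bif P n then true else anyB n P) = true
    rcases Nat.lt_succ_iff_lt_or_eq.1 hk with h1 | h1
    · rw [anyB_of h h1]
      cases P n <;> rfl
    · subst h1
      rw [h]
      rfl

/-- the tests for the images of the point 8 -/
def zt (y z : ℕ) : Bool :=
  bif Nat.beq (cFq (pFq W8 6 y) z) (cFq (pFq W8 6 523) 8) then
    bif Nat.beq (cFq (pFq W8 7 y) z) (cFq (pFq W8 7 523) 8) then
      Nat.beq (cFq z (pFq W8 4 z)) (cFq 8 (pFq W8 4 8))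
    else false
  else false

/-- the tests for the images of the point 523 -/
def yt (y : ℕ) : Bool :=
  bif tAq W8 [] [1, 3, 4] 523 y then anyB 2058 (bkq (pFq W8 4 y) (cFq (pFq W8 4 523) 8) (zt y)) else false

theorem yt_cnt : cnt 2058 yt = 16 := by decide +kernel

theorem colr_pw {c : Cfsg.Spor.He} (hc : c * wd W8 = wd W8 * c) (k : ℕ) (p q : Fin 2058) :
    colr (act (pw W8 k) (phi c p)) (phi c q) = colr (act (pw W8 k) p) q := by
  have h1 : c * wd (pw W8 k) = wd (pw W8 k) * c := by
    rw [wd_pw]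
    exact ((show Commute c (wd W8) from hc).pow_right k).eq
  have h2 : act (pw W8 k) (phi c p) = (phi c (phi (wd (pw W8 k)) p) : ℕ) := by
    rw [act_eq, ← phi_mul_apply, ← h1, phi_mul_apply]
  rw [h2, colr_inv, ← act_eq]

theorem colr_pw' {c : Cfsg.Spor.He} (hc : c * wd W8 = wd W8 * c) (k : ℕ) (q : Fin 2058) :
    colr (phi c q) (act (pw W8 k) (phi c q)) = colr q (act (pw W8 k) q) := by
  have h1 : c * wd (pw W8 k) = wd (pw W8 k) * c := by
    rw [wd_pw]
    exact ((show Commute c (wd W8) from hc).pow_right k).eq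
  have h2 : act (pw W8 k) (phi c q) = (phi c (phi (wd (pw W8 k)) q) : ℕ) := by
    rw [act_eq, ← phi_mul_apply, ← h1, phi_mul_apply]
  rw [h2, colr_inv, ← act_eq]

theorem yt_spec {c : Cfsg.Spor.He} (hc : c * wd W8 = wd W8 * c) : yt (phi c 523) = true := by
  have h1 : tst W8 [] [1, 3, 4] 523 (phi c 523) = true :=
    tst_spec (F := []) hc (fun f hf => absurd hf List.not_mem_nil) (fun _ h => h) [1, 3, 4] 523
  have l1 : (523 : ℕ) < 2058 := by norm_num
  have l2 : (8 : ℕ) < 2058 := by norm_num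
  have l3 := (phi c 523).2
  have l4 := (phi c 8).2
  have h2 := tAq_of (fun f hf => absurd hf List.not_mem_nil) l1 l3 h1
  have e4 := colr_pw hc 4 523 8
  have e6 := colr_pw hc 6 523 8
  have e7 := colr_pw hc 7 523 8
  have e8 := colr_pw' hc 4 8
  have v1 : ((523 : Fin 2058) : ℕ) = 523 := rfl
  have v2 : ((8 : Fin 2058) : ℕ) = 8 := rfl
  rw [v1, v2, ← cFq_eq (act_lt _ _ l3) l4, ← cFq_eq (act_lt _ _ l1) l2, ← pFq_eq, ← pFq_eq] at e4 e6 e7
  rw [v2, ← cFq_eq l4 (act_lt _ _ l4), ← cFq_eq l2 (act_lt _ _ l2), ← pFq_eq, ← pFq_eq] at e8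
  unfold yt
  rw [h2, cond_true]
  refine anyB_of (bkq_of l4 e4 ?_) (fwq_lt _ l4)
  unfold zt
  rw [e6, e7, e8, Nat.beq_refl, Nat.beq_refl, Nat.beq_refl]
  rfl

def l8 : List Stp := [⟨0, [1152], [1], 1⟩, ⟨1, [523, 74], [2, 1], 1⟩, ⟨8, [110, 0, 194], [1, 4], 1⟩,
  ⟨32, [1152], [4, 1], 1⟩]

theorem run8 : runq W8 l8 (nx W8 [] 523) = true := by decide +kernel

/-- **the centralizer of an element of order 8 has order at most 16** -/
theorem card_eight : Nat.card ↥(centralizer ({wd W8} : Set Cfsg.Spor.He)) ≤ 16 := by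
  have hC : ∀ c ∈ centralizer ({wd W8} : Set Cfsg.Spor.He), c * wd W8 = wd W8 * c := fun c hc =>
    mem_centralizer_singleton_iff.1 hc
  have h1 : Nat.card ↥(st (centralizer ({wd W8} : Set Cfsg.Spor.He)) 523) ≤ 1 := by
    refine le_of_runq l8 (nx W8 [] 523) _ (fun c hc => hC c (mem_st.1 hc).1) (fun c hc => ?_) run8
    exact fx_nx (p := 523) (hC c (mem_st.1 hc).1) (fun _ hf => absurd hf List.not_mem_nil) (mem_st.1 hc).2
  have h2 := orb (centralizer ({wd W8} : Set Cfsg.Spor.He)) 523 ((Finset.range 2058).filter fun y => yt y = true)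
    (fun c hc => by
      rw [Finset.mem_filter, Finset.mem_range]
      exact ⟨(phi c 523).2, yt_spec (hC c hc)⟩) h1
  rwa [card_filter, yt_cnt, mul_one] at h2

end Cfsg.Agent.H868.Dl.HeCls

private theorem dce_b03ae4503803 : _root_.True := by
  try have : _root_.True := by simp only [_root_.Cfsg.Agent.H868.Dl.HeCls.fxn.eq_1]
  exact _root_.True.intro
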