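import Cfsg.Agent.H759.Dl.Small
import Cfsg.Agent.H868.Dl.HeCls
import Cfsg.Agent.H454.Dl.Crit
import Cfsg.Agent.H362.Dl.SixtyFour
import Cfsg.Agent.H149.Sp.Quot
import Cfsg.Agent.H582.Ly.Three_m3
import Cfsg.Agent.H314.LyOrb.Deg
import Cfsg.Agent.H314.IMLy
import Cfsg.Agent.H51.Rad3.Ly
import Cfsg.Agent.TypeM.OutLyFin
import Cfsg.Agent.FastGrp
import Cfsg.Agent.Prune
set_option linter.all false

section
prune_inst 0x7f00000000000000000000000000000000000000000000000000000000000000000000000000000000000000000000000000000000000000000000000000000000000000000000000000000000000000003fffffffffffffffffffffffffffbeffbdffffffff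

-- part: H70/Dl/Tools
section
set_option linter.all false
open scoped Cfsg.Agent.FastGrp

/-!
# Derived lengths of Sylow subgroups: tools (helper70)

* `DlLe.of_sylow` : it is enough to consider one Sylow subgroup;
* `DlLe.of_index` : subgroups of index prime to `p`;
* `chain` : bounds for the derived series of a subgroup;
* `dlLe_two_of_abelian` : an abelian `p`-subgroup `A` with `|N(A) : A|_p = p²`.
-/

set_option autoImplicit false

namespace Cfsg.Agent.H70.Dl

open Cfsg.Agent.H246.Dl Subgroup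
open scoped commutatorElement

variable {S : Type*} [Group S]

theorem derivedSeries_of_equiv {A B : Type*} [Group A] [Group B] (e : A ≃* B) {d : ℕ}
    (h : derivedSeries B d = ⊥) : derivedSeries A d = ⊥ := by
  have h1 : (derivedSeries A d).map e.toMonoidHom ≤ derivedSeries B d :=
    map_derivedSeries_le_derivedSeries e.toMonoidHom d
  rw [h, le_bot_iff, Subgroup.map_eq_bot_iff_of_injective _ e.injective] at h1
  exact h1

/-- One Sylow subgroup. -/
theorem DlLe.of_sylow [Finite S] {p d : ℕ} [Fact p.Prime] (P : Sylow p S)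
    (h : derivedSeries ↥(P : Subgroup S) d = ⊥) : DlLe p d S := by
  intro Q
  exact derivedSeries_of_equiv (Sylow.equiv Q P) h

/-- The derived series of `T` in `G`. -/
theorem map_derivedSeries_succ {T : Subgroup S} {n : ℕ} :
    (derivedSeries ↥T (n + 1)).map T.subtype = ⁅(derivedSeries ↥T n).map T.subtype, (derivedSeries ↥T n).map T.subtype⁆ := by
  rw [derivedSeries_succ, Subgroup.map_commutator]

/-- **A chain of subgroups bounding the derived series.** -/
theorem chain {T : Subgroup S} (N : ℕ → Subgroup S) (h0 : T ≤ N 0) (hs : ∀ i, ⁅N i, N i⁆ ≤ N (i + 1)) {d : ℕ}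
    (hd : N d = ⊥) : derivedSeries ↥T d = ⊥ := by
  have h1 : ∀ i, (derivedSeries ↥T i).map T.subtype ≤ N i := by
    intro i
    induction i with
    | zero =>
      rw [derivedSeries_zero, ← MonoidHom.range_eq_map, Subgroup.range_subtype]
      exact h0
    | succ i ih =>
      rw [map_derivedSeries_succ]
      exact (Subgroup.commutator_mono ih ih).trans (hs i)
  have h2 := h1 d
  rw [hd, le_bot_iff, Subgroup.map_eq_bot_iff_of_injective _ T.subtype_injective] at h2
  exact h2

theorem chain_two {T A : Subgroup S} (h1 : ⁅T, T⁆ ≤ A) (h2 : ⁅A, A⁆ = ⊥) : derivedSeries ↥T 2 = ⊥ := by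
  refine chain (fun i => if i = 0 then T else if i = 1 then A else ⊥) ?_ ?_ (d := 2) ?_
  · simp
  · intro i
    rcases i with _ | _ | i
    · simpa using h1
    · simp [h2]
    · simp
  · simp

theorem chain_three {T R V : Subgroup S} (h1 : ⁅T, T⁆ ≤ R) (h2 : ⁅R, R⁆ ≤ V) (h3 : ⁅V, V⁆ = ⊥) :
    derivedSeries ↥T 3 = ⊥ := by
  refine chain (fun i => if i = 0 then T else if i = 1 then R else if i = 2 then V else ⊥) ?_ ?_ (d := 3) ?_
  · simp
  · intro i
    rcases i with _ | _ | _ | i
    · simpa using h1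
    · simpa using h2
    · simp [h3]
    · simp
  · simp

theorem commutator_eq_bot_of_comm {A : Subgroup S} (h : ∀ a ∈ A, ∀ b ∈ A, a * b = b * a) : ⁅A, A⁆ = ⊥ := by
  rw [eq_bot_iff, Subgroup.commutator_le]
  intro a ha b hb
  rw [Subgroup.mem_bot, commutatorElement_def, h a ha b hb, mul_assoc, mul_assoc, mul_inv_cancel_left, mul_inv_cancel]

/-- A subgroup of index prime to `p`. -/
theorem DlLe.of_index [Finite S] {p d : ℕ} [hp : Fact p.Prime] {H : Subgroup S} (hH : ¬ p ∣ H.index)
    (h : DlLe p d H) : DlLe p d S := by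
  obtain ⟨P⟩ : Nonempty (Sylow p H) := inferInstance
  have hc : Nat.card ((P : Subgroup H).map H.subtype) = p ^ (Nat.card S).factorization p := by
    have h1 : Nat.card ((P : Subgroup H).map H.subtype) = Nat.card P :=
      (Nat.card_congr ((P : Subgroup H).equivMapOfInjective _ H.subtype_injective).toEquiv).symm
    rw [h1, P.card_eq_multiplicity]
    congr 1
    rw [← H.card_mul_index, Nat.factorization_mul Nat.card_pos.ne' Subgroup.index_ne_zero_of_finite,
      Finsupp.add_apply, Nat.factorization_eq_zero_of_not_dvd hH, add_zero]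
  let Q : Sylow p S := Sylow.ofCard _ hc
  refine DlLe.of_sylow Q ?_
  exact derivedSeries_of_equiv ((P : Subgroup H).equivMapOfInjective _ H.subtype_injective).symm (h P)

/-- **An abelian `p`-subgroup `A` with `|N(A) : A|_p = p²` and `|G|_p = p² |A|`.** -/
theorem dlLe_two_of_abelian [Finite S] {p k : ℕ} [hp : Fact p.Prime] {A : Subgroup S}
    (hab : ∀ a ∈ A, ∀ b ∈ A, a * b = b * a) (hA : Nat.card A = p ^ k)
    (hN : p ^ (k + 2) ∣ Nat.card (normalizer (A : Set S))) (hS : (Nat.card S).factorization p = k + 2) :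
    DlLe p 2 S := by
  set N := normalizer (A : Set S) with hNd
  have hAN : A ≤ N := Subgroup.le_normalizer
  have hn : (A.subgroupOf N).Normal := Subgroup.normal_in_normalizer
  have hpA : IsPGroup p (A.subgroupOf N) :=
    (IsPGroup.iff_card.2 ⟨k, hA⟩ : IsPGroup p A).comap_of_injective N.subtype N.subtype_injective
  obtain ⟨P, hP⟩ := hpA.exists_le_sylow
  have h1 : Nat.card ((P : Subgroup N).map N.subtype) = Nat.card P :=
    (Nat.card_congr ((P : Subgroup N).equivMapOfInjective _ N.subtype_injective).toEquiv).symm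
  have h2 : p ^ (k + 2) ∣ Nat.card P := P.pow_dvd_card_of_pow_dvd_card hN
  have h3 : Nat.card P ∣ p ^ (k + 2) := by
    obtain ⟨n, hn'⟩ := IsPGroup.iff_card.1 P.isPGroup'
    have h4 : p ^ n ∣ Nat.card S := by
      rw [← hn', ← h1]
      exact Subgroup.card_subgroup_dvd_card _
    rw [hn']
    refine Nat.pow_dvd_pow p ?_
    rw [← hS]
    exact (hp.out.pow_dvd_iff_le_factorization Nat.card_pos.ne').1 h4
  have h5 : Nat.card P = p ^ (k + 2) := Nat.dvd_antisymm h3 h2
  let Q : Sylow p S := Sylow.ofCard ((P : Subgroup N).map N.subtype) (by rw [h1, h5, hS])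
  refine DlLe.of_sylow Q ?_
  show derivedSeries ↥((P : Subgroup N).map N.subtype) 2 = ⊥
  refine chain_two (A := A) ?_ (commutator_eq_bot_of_comm hab)
  -- the quotient has order `p²`
  have hle : A.subgroupOf N ≤ (P : Subgroup N) := hP
  obtain ⟨P0, hP0⟩ : ∃ P0 : Subgroup N, P0 = (P : Subgroup N) := ⟨_, rfl⟩
  rw [← hP0] at hle ⊢
  have h5 : Nat.card P0 = p ^ (k + 2) := by rw [hP0]; exact h5
  set A' : Subgroup P0 := (A.subgroupOf N).subgroupOf P0 with hA'
  have hn' : A'.Normal := inferInstance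
  have hcA : Nat.card A' = p ^ k := by
    rw [hA', Nat.card_congr (Subgroup.subgroupOfEquivOfLe hle).toEquiv,
      Nat.card_congr (Subgroup.subgroupOfEquivOfLe hAN).toEquiv, hA]
  have hq : Nat.card (P0 ⧸ A') = p ^ 2 := by
    have h6 := Subgroup.card_eq_card_quotient_mul_card_subgroup A'
    rw [h5, hcA, pow_add, mul_comm] at h6
    exact (Nat.eq_of_mul_eq_mul_right (pow_pos hp.out.pos k) h6).symm
  have hcomm : ∀ a b : P0 ⧸ A', a * b = b * a := (IsPGroup.commGroupOfCardEqPrimeSq (p := p) hq).mul_comm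
  rw [Subgroup.commutator_le]
  rintro _ ⟨x, hx, rfl⟩ _ ⟨y, hy, rfl⟩
  have h7 : (⁅(⟨x, hx⟩ : P0), (⟨y, hy⟩ : P0)⁆ : P0) ∈ A' := by
    rw [← QuotientGroup.eq_one_iff, commutatorElement_def]
    show (QuotientGroup.mk (⟨x, hx⟩ : P0) : P0 ⧸ A') * QuotientGroup.mk (⟨y, hy⟩ : P0) *
      (QuotientGroup.mk (⟨x, hx⟩ : P0))⁻¹ * (QuotientGroup.mk (⟨y, hy⟩ : P0))⁻¹ = 1
    rw [hcomm (QuotientGroup.mk (⟨x, hx⟩ : P0))]
    group
  exact h7

end Cfsg.Agent.H70.Dl
end

-- part: H868/Dl/Ly
section
set_option linter.all false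
open scoped Cfsg.Agent.FastGrp

-- part: H868/Dl/He
section
/-!
# S4769, S4767: the row of the Held group (helper868, task DL-SPOR-3)

`p = 2` : 21 classes, an element of order 8 with centralizer of order at most 16, `|Out| ≤ 2`, so three characters of
even degree; `|S|₂ = 2 ^ 10`, so the derived length is at most 3.
-/

set_option autoImplicit false

open Cfsg

namespace Cfsg.Agent.H868.Dl

open Cfsg.Agent.H246.Dl Cfsg.Agent.H680.Dl Cfsg.Agent.H759.Dl

universe u

/-- `|Out| ≤ 2` in the form of `H454.Dl.Crit` -/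
theorem out_le_two {S : Type u} [Group S] (h : IsSporadicGroup S) : Nat.card (H454.DlCrit.OutQ S) ≤ 2 :=
  H498.SporOut.index_le_two h

theorem he_spor {S : Type u} [Group S] (h : Spor.IsoHe S) : IsSporadicGroup S := by
  unfold IsSporadicGroup
  tauto

/-- three characters of even degree -/
theorem many_he : Many 2 Cfsg.Spor.He 3 := by
  have hfin := HeCls.finHe
  have : Fact (Nat.Prime 2) := ⟨Nat.prime_two⟩
  refine H454.DlCrit.Many.of_count_le (o := 2) (c := 21) (x := SporadicB.HePerm.wd HeCls.W8) ⟨3, ?_⟩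
    (out_le_two (he_spor ⟨MulEquiv.refl _⟩)) HeCls.classes ?_
  · rw [HeCls.order_eight]
    norm_num
  · have h1 := HeCls.card_eight
    omega

/-- a prime divisor of `p ^ a * m` -/
theorem eq_or_dvd {p q a m : ℕ} (hp : p.Prime) (hq : q.Prime) (h : p ∣ q ^ a * m) : p = q ∨ p ∣ m := by
  rcases hp.dvd_mul.1 h with h | h
  · exact Or.inl ((Nat.prime_dvd_prime_iff_eq hp hq).1 (hp.dvd_of_dvd_pow h))
  · exact Or.inr h

/-- a simple group with a non-central element is not commutative -/
theorem not_comm_of_card {S : Type u} [Group S] [Finite S] [IsSimpleGroup S] (h : ¬ (Nat.card S).Prime) :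
    ¬ IsMulCommutative S := by
  intro hc
  let _ : CommGroup S := { (inferInstance : Group S) with mul_comm := hc.is_comm.comm }
  exact h IsSimpleGroup.prime_card

/-- **The row of the Held group.** -/
theorem row_he (T : H596.OneFacts.FactTwo.{u}) (I : H671.H5.FactIM.{u}) : RowF.{u} (fun S => Spor.IsoHe S) := by
  intro S _ _ _ h p hp hd
  have hF : Fact p.Prime := ⟨hp⟩
  have hcard : Nat.card S = 4030387200 := by
    obtain ⟨e⟩ := h
    rw [Nat.card_congr e.toEquiv, KFacts.He.Classes.card_he]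
  have hc : ¬ IsMulCommutative S := not_comm_of_card (by rw [hcard]; norm_num)
  by_cases h2 : p = 2
  · subst h2
    obtain ⟨e⟩ := h
    exact Row.of_le (dlLe_three (a := 10) le_rfl (by rw [hcard]; norm_num)) (many_he.of_equiv e) le_rfl
  · refine row_of_dl_two T I hc hp hd (dlLe_two (a := 3) (by norm_num) ?_)
    rw [hcard] at hd ⊢
    have h1 : (4030387200 : ℕ) = 2 ^ 10 * (3 ^ 3 * (5 ^ 2 * (7 ^ 3 * (17 ^ 1 * 1)))) := by norm_num
    rw [h1] at hd
    rcases eq_or_dvd hp Nat.prime_two hd with rfl | hd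
    · exact absurd rfl h2
    rcases eq_or_dvd hp Nat.prime_three hd with rfl | hd
    · norm_num
    rcases eq_or_dvd hp (by norm_num) hd with rfl | hd
    · norm_num
    rcases eq_or_dvd hp (by norm_num) hd with rfl | hd
    · norm_num
    rcases eq_or_dvd hp (by norm_num) hd with rfl | hd
    · norm_num
    · exact absurd (Nat.dvd_one.1 hd) hp.one_lt.ne'

end Cfsg.Agent.H868.Dl
end

-- part: H868/Dl/Ly
section
/-!
# S4769, S4767: the row of the Lyons group (helper868, task DL-SPOR-3)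

* `p = 2` : three irreducible characters of the rank 5 permutation representation, of degrees 45694, 1534500, 3028266;
* `p = 3` : an abelian normal subgroup `3 ^ 5` of a Sylow subgroup, with an abelian quotient;
* `p = 5` : an element of order 25 with centralizer of order at most 25, and 28 element orders.
-/

set_option autoImplicit false

open Cfsg

namespace Cfsg.Agent.H868.Dl

open Cfsg.Agent.H246.Dl Cfsg.Agent.H680.Dl Cfsg.Agent.H759.Dl Cfsg.Agent.H70.Dl Subgroup

universe u

theorem finLy : Finite Spor.Ly := Cfsg.Agent.Ly.Setup.finite_ly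

theorem many_ly_two : Many 2 Spor.Ly 3 := by
  obtain ⟨χ, -, hd⟩ := H314.LyOrb.exists_deg_ly
  refine Many.of_degrees (fun i : Fin 3 => χ (![1, 2, 3] i)) ?_ ?_
  · intro i
    rw [hd]
    fin_cases i <;> simp [H314.LyOrb.deg]
  · intro i j hij
    simp only [hd] at hij
    fin_cases i <;> fin_cases j <;> simp [H314.LyOrb.deg] at hij ⊢

/-! ### `p = 3` -/

theorem dl_ly_three : DlLe 3 2 Spor.Ly := by
  have hfin := finLy
  have : Fact (Nat.Prime 3) := ⟨Nat.prime_three⟩
  have hP : IsPGroup 3 ↥(H51.Rad3.Ly.U ⊔ H51.Rad3.Ly.E) := H51.Rad3.Ly.isPGroup_P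
  have hi : ¬ 3 ∣ (H51.Rad3.Ly.U ⊔ H51.Rad3.Ly.E).index := H51.Rad3.Ly.index_P
  refine DlLe.of_sylow (hP.toSylow hi) ?_
  have hEU := H51.Rad3.Ly.U_le
  refine chain_two (T := H51.Rad3.Ly.U ⊔ H51.Rad3.Ly.E) (A := H51.Rad3.Ly.E) ?_
    (commutator_eq_bot_of_comm H51.Rad3.Ly.E_props.2)
  rw [commutator_le]
  intro a ha b hb
  have hdec : ∀ x ∈ H51.Rad3.Ly.U ⊔ H51.Rad3.Ly.E, ∃ y ∈ H51.Rad3.Ly.U, ∃ z ∈ H51.Rad3.Ly.E, x = y * z := by
    intro x hx
    rw [← SetLike.mem_coe, coe_mul_of_left_le_normalizer_right _ _ hEU] at hx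
    obtain ⟨y, hy, z, hz, rfl⟩ := Set.mem_mul.1 hx
    exact ⟨y, hy, z, hz, rfl⟩
  obtain ⟨y, hy, z, hz, rfl⟩ := hdec a ha
  obtain ⟨y', hy', z', hz', rfl⟩ := hdec b hb
  have hyy := H51.Rad3.Ly.U_props.2 y hy y' hy'
  have hn : ∀ {c w : Spor.Ly}, c ∈ H51.Rad3.Ly.U → w ∈ H51.Rad3.Ly.E → c * w * c⁻¹ ∈ H51.Rad3.Ly.E := fun hc hw =>
    (mem_normalizer_iff.1 (hEU hc) _).1 hw
  have hy3 : y * y' * y⁻¹ = y' := by rw [hyy, mul_inv_cancel_right]
  have e : y * z * (y' * z') * (y * z)⁻¹ * (y' * z')⁻¹ = (y * z * y⁻¹) * ((y * y') * (z' * z⁻¹) * (y * y')⁻¹) * (y' * z'⁻¹ * y'⁻¹) := by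
    calc y * z * (y' * z') * (y * z)⁻¹ * (y' * z')⁻¹ =
        (y * z * y⁻¹) * ((y * y') * (z' * z⁻¹) * (y * y')⁻¹) * ((y * y' * y⁻¹) * z'⁻¹ * y'⁻¹) := by group
      _ = _ := by rw [hy3]
  rw [commutatorElement_def, e]
  exact mul_mem (mul_mem (hn hy hz) (hn (mul_mem hy hy') (mul_mem hz' (inv_mem hz)))) (hn hy' (inv_mem hz'))

/-! ### `p = 5` -/

theorem card_le_classes {G : Type*} [Group G] [Finite G] (T : Finset ℕ) (h : ∀ n ∈ T, ∃ g : G, orderOf g = n) :
    T.card ≤ Nat.card (ConjClasses G) := by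
  classical
  choose g hg using h
  have : Finite (ConjClasses G) := Quotient.finite _
  have hinj : Function.Injective fun n : T => ConjClasses.mk (g n.1 n.2) := by
    intro a b hab
    have h1 := ConjClasses.mk_eq_mk_iff_isConj.1 hab
    obtain ⟨c, hc⟩ := isConj_iff.1 h1
    have h2 : orderOf (g b.1 b.2) = orderOf (g a.1 a.2) := by
      rw [← hc]
      exact orderOf_injective (MulAut.conj c).toMonoidHom (MulAut.conj c).injective _
    rw [hg, hg] at h2
    exact Subtype.ext h2.symm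
  have h3 := Nat.card_le_card_of_injective _ hinj
  simpa using h3

theorem classes_ly : 28 ≤ Nat.card (ConjClasses Spor.Ly) := by
  have hfin := finLy
  have hcard : Nat.card Cfsg.Spor.Ly = 51765179004000000 := Cfsg.Agent.Ly.Setup.card_ly
  obtain ⟨L⟩ := Cfsg.Agent.TypeM.FactsLy.exists_mt_ly
  have hpr : ∀ q : ℕ, q.Prime → q ∣ 51765179004000000 → ∃ g : Spor.Ly, orderOf g = q := by
    intro q hq hd
    have : Fact q.Prime := ⟨hq⟩
    exact exists_prime_orderOf_dvd_card' q (by rw [hcard]; exact hd)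
  refine le_trans (by decide) (card_le_classes (G := Spor.Ly) (({1, 3, 5, 7, 9, 11, 15, 21, 2, 6, 10, 14, 18, 22, 30, 42,
    4, 8, 12, 20, 24, 28, 40} : Finset ℕ) ∪ {25, 31, 33, 37, 67}) ?_)
  intro n hn
  rcases Finset.mem_union.1 hn with hn | hn
  · exact H710.Spor.Ly.exists_orders L n hn
  · simp only [Finset.mem_insert, Finset.mem_singleton] at hn
    rcases hn with rfl | rfl | rfl | rfl | rfl
    · exact H314.LyOrb.Ord25.exists25
    · exact hpr 31 (by norm_num) (by norm_num)
    · exact H314.LyOrb.IMSeven.exists33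
    · exact hpr 37 (by norm_num) (by norm_num)
    · exact hpr 67 (by norm_num) (by norm_num)

theorem card25 {x : Spor.Ly} (hx : orderOf x = 25) : Nat.card (centralizer ({x} : Set Spor.Ly)) ≤ 25 := by
  have hfin := finLy
  have : Fact (Nat.Prime 5) := ⟨Nat.prime_five⟩
  obtain ⟨L⟩ := Cfsg.Agent.TypeM.FactsLy.exists_mt_ly
  obtain ⟨f, K, S, h⟩ := H582.Ly.exists_fv L
  have hA : IsPGroup 5 ↥(zpowers x) := IsPGroup.of_card (n := 2) (by rw [Nat.card_zpowers, hx]; norm_num)
  obtain ⟨t', f', K', S', h', P, hP, -, hPf, -⟩ := h.exists_sylow Cfsg.Agent.Ly.Setup.card_ly hA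
  exact LyFive.card_cent25 h' (mem_centralizer_singleton_iff.1 (hPf (hP (mem_zpowers x)))) hx

theorem many_ly_five : Many 5 Spor.Ly 3 := by
  have hfin := finLy
  have : Fact (Nat.Prime 5) := ⟨Nat.prime_five⟩
  obtain ⟨x, hx⟩ := H314.LyOrb.Ord25.exists25
  refine H454.DlCrit.Many.of_count_le (o := 1) (c := 28) (x := x) ⟨2, ?_⟩ ?_ classes_ly ?_
  · rw [hx]
    norm_num
  · refine H454.DlCrit.card_out_of_inner fun σ => ?_
    obtain ⟨g, hg⟩ := TypeM.OutLyFin.inner_ly σ
    exact ⟨g, hg.symm⟩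
  · have h1 := card25 hx
    omega

/-- **The row of the Lyons group.** -/
theorem row_ly (T : H596.OneFacts.FactTwo.{u}) (I : H671.H5.FactIM.{u}) : RowF.{u} (fun S => Spor.IsoLy S) := by
  intro S _ _ _ h p hp hd
  have hF : Fact p.Prime := ⟨hp⟩
  obtain ⟨e⟩ := h
  have hcard : Nat.card S = 51765179004000000 := by
    rw [Nat.card_congr e.toEquiv, Cfsg.Agent.Ly.Setup.card_ly]
  have hc : ¬ IsMulCommutative S := not_comm_of_card (by rw [hcard]; norm_num)
  by_cases h2 : p = 2
  · subst h2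
    exact Row.of_le (dlLe_three (a := 8) (by norm_num) (by rw [hcard]; norm_num)) (many_ly_two.of_equiv e) le_rfl
  by_cases h3 : p = 3
  · subst h3
    exact row_of_dl_two T I hc hp hd (dl_ly_three.of_equiv e)
  by_cases h5 : p = 5
  · subst h5
    exact Row.of_le (dlLe_three (a := 6) (by norm_num) (by rw [hcard]; norm_num)) (many_ly_five.of_equiv e) le_rfl
  · refine row_of_dl_two T I hc hp hd (dlLe_two (a := 1) (by norm_num) ?_)
    rw [hcard] at hd ⊢
    have h1 : (51765179004000000 : ℕ) = 2 ^ 8 * (3 ^ 7 * (5 ^ 6 * (7 ^ 1 * (11 ^ 1 * (31 ^ 1 * (37 ^ 1 * (67 ^ 1 * 1))))))) := by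
      norm_num
    rw [h1] at hd
    rcases eq_or_dvd hp Nat.prime_two hd with rfl | hd
    · exact absurd rfl h2
    rcases eq_or_dvd hp Nat.prime_three hd with rfl | hd
    · exact absurd rfl h3
    rcases eq_or_dvd hp (by norm_num) hd with rfl | hd
    · exact absurd rfl h5
    rcases eq_or_dvd hp (by norm_num) hd with rfl | hd
    · norm_num
    rcases eq_or_dvd hp (by norm_num) hd with rfl | hd
    · norm_num
    rcases eq_or_dvd hp (by norm_num) hd with rfl | hd
    · norm_num
    rcases eq_or_dvd hp (by norm_num) hd with rfl | hd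
    · norm_num
    rcases eq_or_dvd hp (by norm_num) hd with rfl | hd
    · norm_num
    · exact absurd (Nat.dvd_one.1 hd) hp.one_lt.ne'

end Cfsg.Agent.H868.Dl
end
end
end
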